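import Groth.Agent.Weighting.Split
import Groth.Agent.S0096
import Groth.Agent.S9559

/-!
Étale neighbourhoods splitting off finitely many points of a morphism which is locally quasi-finite near them.
-/

set_option autoImplicit false
universe u

open CategoryTheory CategoryTheory.Limits AlgebraicGeometry

namespace Groth.Agent.EtLocalLib

open Groth.Agent.Weighting

set_option backward.isDefEq.respectTransparency.types false

/-- The pieces over an étale neighbourhood. -/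
theorem exists_nbhd_pieces {X S : Scheme.{u}} (f : X ⟶ S) (s : S) {ι : Type} [Finite ι] (x : ι → X)
    (hinj : Function.Injective x) (hs : ∀ i, f (x i) = s) (X₀ : X.Opens) (hx₀ : ∀ i, x i ∈ X₀)
    [LocallyQuasiFinite (X₀.ι ≫ f)] [LocallyOfFiniteType (X₀.ι ≫ f)]
    (P : MorphismProperty Scheme.{u}) [P.RespectsIso] [IsZariskiLocalAtTarget P]
    (hP : ∀ {V W : Scheme.{u}} (g : V ⟶ S) [Etale g] (j : W ⟶ (X₀ : Scheme.{u})) (q : W ⟶ V) {K : Type u}
      [Field K] [IsAlgClosed K] (y : Spec (.of K) ⟶ V) (p : Spec (.of K) ⟶ (X₀ : Scheme.{u})),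
      IsPiece (X₀.ι ≫ f) g j q → IsPointed j q y p → ∃ U : V.Opens, pt y ∈ U ∧ P (q ∣_ U)) :
    ∃ (U : Scheme.{u}) (g : U ⟶ S) (u : U), Etale g ∧ g u = s ∧
      ∃ (K : Type) (_ : Finite K) (lab : K → ι) (V : K → (pullback f g).Opens),
        (∀ k, P ((V k).ι ≫ pullback.snd f g) ∧ IsFinite ((V k).ι ≫ pullback.snd f g)) ∧
        (∀ k, ∃ w : ↑(pullback f g), w ∈ V k ∧ pullback.snd f g w = u) ∧
        (∀ (k k' : K) (w : ↑(pullback f g)), w ∈ V k → w ∈ V k' → pullback.snd f g w = u → k = k') ∧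
        (∀ (w : ↑(pullback f g)) (i : ι), pullback.snd f g w = u → pullback.fst f g w = x i →
          ∃ k, lab k = i ∧ w ∈ V k) := by
  classical
  let K : Type u := AlgebraicClosure (S.residueField s)
  obtain ⟨y, hy⟩ : ∃ y : Spec (.of K) ⟶ S, pt y = s :=
    ⟨Spec.map (CommRingCat.ofHom (algebraMap (S.residueField s) K)) ≫ S.fromSpecResidueField s,
      Scheme.fromSpecResidueField_apply s _⟩
  let f₀ := X₀.ι ≫ f
  let Pt := {p : GPts f₀ y // ∃ i, (pt p.1).1 = x i}
  haveI : Finite Pt := by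
    haveI := fun i : ι => finite_lifts f₀ y (⟨x i, hx₀ i⟩ : X₀)
    refine Finite.of_surjective
      (fun a : Σ i : ι, {p : GPts f₀ y // pt p.1 = (⟨x i, hx₀ i⟩ : X₀)} =>
        (⟨a.2.1, a.1, congrArg Subtype.val a.2.2⟩ : Pt)) fun p => ?_
    obtain ⟨i, hi⟩ := p.2
    exact ⟨⟨i, p.1, Subtype.ext hi⟩, rfl⟩
  haveI : Fintype Pt := Fintype.ofFinite _
  obtain ⟨V, g, _, v, hv, hpieces⟩ := exists_common_nbhd f₀ (fun p : Pt => p.1.1) y (fun p => p.1.2) Finset.univ
  choose W j q hp hpt using fun p => hpieces p (Finset.mem_univ p)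
  choose Up hUp hPUp using fun p => hP g (j p) (q p) v p.1.1 (hp p) (hpt p)
  let T : V.Opens := ⟨⋂ p : Pt, (Up p : Set V), isOpen_iInter_of_finite fun p => (Up p).2⟩
  have hT : pt v ∈ T := Set.mem_iInter.mpr hUp
  let v' : Spec (.of K) ⟶ T := IsOpenImmersion.lift T.ι v (by
    rintro _ ⟨a, rfl⟩
    rw [Subsingleton.elim (α := PrimeSpectrum K) a (IsLocalRing.closedPoint K), Scheme.Opens.range_ι]
    exact hT)
  have hv' : v' ≫ T.ι = v := IsOpenImmersion.lift_fac ..
  let g' := T.ι ≫ g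
  have hgu : g' (pt v') = s := by
    show pt (v' ≫ T.ι ≫ g) = s
    rw [reassoc_of% hv', hv, hy]
  refine ⟨T, g', pt v', inferInstance, hgu, ?_⟩
  -- the pieces over `T`
  let j' : ∀ p, (q p ⁻¹ᵁ T : Scheme.{u}) ⟶ X₀ := fun p => (q p ⁻¹ᵁ T).ι ≫ j p
  have hp' : ∀ p, IsPiece f₀ g' (j' p) (q p ∣_ T) := fun p => (hp p).restrictBase T
  have hpt' : ∀ p, IsPointed (j' p) (q p ∣_ T) v' p.1.1 := fun p =>
    (hpt p).baseChange (isPullback_morphismRestrict (q p) T).flip hv'
  have hP' : ∀ p, P (q p ∣_ T) := fun p => by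
    have hle : T ≤ Up p := fun a ha => Set.mem_iInter.mp ha p
    have hTU : T = (Up p).ι ''ᵁ ((Up p).ι ⁻¹ᵁ T) := by
      rw [Scheme.Hom.image_preimage_eq_opensRange_inf, Scheme.Opens.opensRange_ι, inf_eq_right.mpr hle]
    rw [hTU]
    exact (P.arrow_mk_iso_iff (morphismRestrictRestrict (q p) (Up p) _)).1 (IsZariskiLocalAtTarget.restrict (hPUp p) _)
  let m₀ : pullback f₀ g' ⟶ pullback f g' :=
    pullback.map f₀ g' f g' X₀.ι (𝟙 _) (𝟙 S) (by simp [f₀]) (by simp)
  have hm₀fst : m₀ ≫ pullback.fst f g' = pullback.fst f₀ g' ≫ X₀.ι := pullback.lift_fst _ _ _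
  have hm₀snd : m₀ ≫ pullback.snd f g' = pullback.snd f₀ g' := (pullback.lift_snd _ _ _).trans (Category.comp_id _)
  haveI : IsOpenImmersion m₀ := by dsimp only [m₀]; infer_instance
  let k : ∀ p, (q p ⁻¹ᵁ T : Scheme.{u}) ⟶ pullback f g' := fun p => pullback.lift (j' p) (q p ∣_ T) (hp' p).w ≫ m₀
  haveI : ∀ p, IsOpenImmersion (k p) := fun p => by
    haveI := (hp' p).isOpenImmersion_lift
    infer_instance
  have hkfst : ∀ p, k p ≫ pullback.fst f g' = j' p ≫ X₀.ι := fun p => by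
    simp only [k, Category.assoc, hm₀fst, pullback.lift_fst_assoc]
  have hksnd : ∀ p, k p ≫ pullback.snd f g' = q p ∣_ T := fun p => by
    simp only [k, Category.assoc, hm₀snd, pullback.lift_snd]
  have hiso : ∀ p, (k p).isoOpensRange.hom ≫ (k p).opensRange.ι ≫ pullback.snd f g' = q p ∣_ T := fun p => by
    rw [Scheme.Hom.isoOpensRange_hom_ι_assoc, hksnd]
  -- every geometric point over `v'` near the `x i` is in its piece
  have hmem : ∀ (p : Pt) (a : Spec (.of K) ⟶ pullback f₀ g'), a ≫ pullback.snd f₀ g' = v' →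
      a ≫ pullback.fst f₀ g' = p.1.1 → m₀ (pt a) ∈ (k p).opensRange := by
    intro p a ha hb
    obtain ⟨z, hz, -⟩ := hpt' p
    have : a = z.1 ≫ pullback.lift (j' p) (q p ∣_ T) (hp' p).w := by
      refine pullback.hom_ext ?_ ?_
      · rw [hb, Category.assoc, pullback.lift_fst, hz]
      · rw [ha, Category.assoc, pullback.lift_snd, z.2]
    exact ⟨pt z.1, by rw [this]; rfl⟩
  let n := Nat.card Pt
  let e : Pt ≃ Fin n := Finite.equivFin Pt
  refine ⟨Fin n, inferInstance, fun a => (e.symm a).2.choose, fun a => (k (e.symm a)).opensRange,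
    fun a => ?_, fun a => ?_, fun a b w hwa hwb hwu => ?_, fun w i hwu hwx => ?_⟩
  · constructor
    · rw [← P.cancel_left_of_respectsIso (k (e.symm a)).isoOpensRange.hom, hiso]
      exact hP' _
    · rw [← MorphismProperty.cancel_left_of_respectsIso @IsFinite (k (e.symm a)).isoOpensRange.hom, hiso]
      exact (hp' _).isFinite
  · obtain ⟨z, -, -⟩ := hpt' (e.symm a)
    refine ⟨k (e.symm a) (pt z.1), ⟨pt z.1, rfl⟩, ?_⟩
    show (k (e.symm a) ≫ pullback.snd f g') (pt z.1) = pt v'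
    rw [hksnd]
    exact z.map_pt
  · obtain ⟨wa, rfl⟩ := hwa
    obtain ⟨wb, hwb⟩ := hwb
    haveI := fun p => (hp' p).isFinite
    have hqa : (q (e.symm a) ∣_ T) wa = pt v' := by
      rw [← hksnd]; exact hwu
    obtain ⟨za, hza, hzap⟩ := (hpt' (e.symm a)).eq_pt hqa
    have hla : za.1 ≫ pullback.lift (j' (e.symm a)) (q (e.symm a) ∣_ T) (hp' _).w =
        za.1 ≫ pullback.lift (j' (e.symm a)) (q (e.symm a) ∣_ T) (hp' _).w := rfl
    -- the two geometric points agree
    have hwb' : pullback.lift (j' (e.symm b)) (q (e.symm b) ∣_ T) (hp' _).w wb =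
        pullback.lift (j' (e.symm a)) (q (e.symm a) ∣_ T) (hp' _).w wa :=
      m₀.isOpenEmbedding.injective hwb
    haveI := (hp' (e.symm b)).isOpenImmersion_lift
    let zb : Spec (.of K) ⟶ (q (e.symm b) ⁻¹ᵁ T : Scheme.{u}) := IsOpenImmersion.lift
      (pullback.lift (j' (e.symm b)) (q (e.symm b) ∣_ T) (hp' _).w)
      (za.1 ≫ pullback.lift (j' (e.symm a)) (q (e.symm a) ∣_ T) (hp' _).w) (by
        rintro _ ⟨c, rfl⟩
        rw [Subsingleton.elim (α := PrimeSpectrum K) c (IsLocalRing.closedPoint K)]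
        exact ⟨wb, hwb'.trans (by rw [← hzap]; rfl)⟩)
    have hzb := IsOpenImmersion.lift_fac (pullback.lift (j' (e.symm b)) (q (e.symm b) ∣_ T) (hp' _).w)
      (za.1 ≫ pullback.lift (j' (e.symm a)) (q (e.symm a) ∣_ T) (hp' _).w) (by
        rintro _ ⟨c, rfl⟩
        rw [Subsingleton.elim (α := PrimeSpectrum K) c (IsLocalRing.closedPoint K)]
        exact ⟨wb, hwb'.trans (by rw [← hzap]; rfl)⟩)
    have hb1 : zb ≫ (q (e.symm b) ∣_ T) = v' := by
      have := congr($hzb ≫ pullback.snd f₀ g')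
      simp only [Category.assoc, pullback.lift_snd, za.2] at this
      exact this
    have hb2 : zb ≫ j' (e.symm b) = (e.symm a).1.1 := by
      have := congr($hzb ≫ pullback.fst f₀ g')
      simp only [Category.assoc, pullback.lift_fst, hza] at this
      exact this
    obtain ⟨z, hz, huniq⟩ := hpt' (e.symm b)
    have hzz := congr(($(huniq ⟨zb, hb1⟩)).1)
    refine e.symm.injective (Subtype.ext (Subtype.ext ?_))
    rw [← hb2, show zb = z.1 from hzz, hz]
  · have hwX : pullback.fst f g' w ∈ X₀ := by rw [hwx]; exact hx₀ i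
    have hrange : w ∈ m₀.opensRange := by
      let w₀ : (pullback.fst f g' ⁻¹ᵁ X₀ : Scheme.{u}) := ⟨w, hwX⟩
      let l : (pullback.fst f g' ⁻¹ᵁ X₀ : Scheme.{u}) ⟶ pullback f₀ g' := pullback.lift
        (pullback.fst f g' ∣_ X₀) ((pullback.fst f g' ⁻¹ᵁ X₀).ι ≫ pullback.snd f g')
        (by simp only [f₀, ← Category.assoc, morphismRestrict_ι]; simp only [Category.assoc, pullback.condition])
      have hl : l ≫ m₀ = (pullback.fst f g' ⁻¹ᵁ X₀).ι := by
        refine pullback.hom_ext ?_ ?_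
        · simp [l, hm₀fst, pullback.lift_fst_assoc, morphismRestrict_ι]
        · simp [l, hm₀snd, pullback.lift_snd]
      exact ⟨l w₀, congr(($hl) w₀)⟩
    obtain ⟨w₀, rfl⟩ := hrange
    have hwu₀ : pullback.snd f₀ g' w₀ = pt v' := by rw [← hm₀snd]; exact hwu
    obtain ⟨a, ha⟩ := exists_lift (pullback.snd f₀ g') v' w₀ hwu₀
    let p₀ : GPts f₀ y := ⟨a.1 ≫ pullback.fst f₀ g', by
      rw [Category.assoc, pullback.condition, reassoc_of% a.2, reassoc_of% hv', hv]⟩
    have hp₀ : (pt p₀.1).1 = x i := by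
      rw [← hwx, ← ha]
      show (a.1 ≫ pullback.fst f₀ g' ≫ X₀.ι) _ = (a.1 ≫ m₀ ≫ pullback.fst f g') _
      rw [hm₀fst]
    let p : Pt := ⟨p₀, i, hp₀⟩
    refine ⟨e p, ?_, ?_⟩
    · show (e.symm (e p)).2.choose = i
      have h := (e.symm (e p)).2.choose_spec
      generalize hc : (e.symm (e p)).2.choose = c at h ⊢
      rw [e.symm_apply_apply] at h
      by_contra hne
      exact absurd (h.symm.trans hp₀) (fun hxx => hne (hinj hxx))
    · show m₀ w₀ ∈ (k (e.symm (e p))).opensRange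
      rw [e.symm_apply_apply, ← ha]
      exact hmem p a.1 a.2 rfl

end Groth.Agent.EtLocalLib

namespace Groth.Agent.EtLocalLib

/-- For a separated morphism the pieces may be assumed disjoint and clopen. -/
theorem exists_decomposition {X S : Scheme.{u}} (f : X ⟶ S) [IsSeparated f] (s : S) {ι : Type} (x : ι → X)
    (P : MorphismProperty Scheme.{u}) [P.IsStableUnderBaseChange] [P.RespectsIso]
    (h : ∃ (U : Scheme.{u}) (g : U ⟶ S) (u : U), Etale g ∧ g u = s ∧
      ∃ (K : Type) (_ : Finite K) (lab : K → ι) (V : K → (pullback f g).Opens),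
        (∀ k, P ((V k).ι ≫ pullback.snd f g) ∧ IsFinite ((V k).ι ≫ pullback.snd f g)) ∧
        (∀ k, ∃ w : ↑(pullback f g), w ∈ V k ∧ pullback.snd f g w = u) ∧
        (∀ (k k' : K) (w : ↑(pullback f g)), w ∈ V k → w ∈ V k' → pullback.snd f g w = u → k = k') ∧
        (∀ (w : ↑(pullback f g)) (i : ι), pullback.snd f g w = u → pullback.fst f g w = x i →
          ∃ k, lab k = i ∧ w ∈ V k)) :
    ∃ (U : Scheme.{u}) (g : U ⟶ S) (u : U), Etale g ∧ g u = s ∧
      ∃ (K : Type) (_ : Finite K) (W : (pullback f g).Opens) (V : K → (pullback f g).Opens),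
        W ⊔ (⨆ k, V k) = ⊤ ∧ (∀ k, Disjoint W (V k)) ∧ (∀ k k', k ≠ k' → Disjoint (V k) (V k')) ∧
        (∀ k, P ((V k).ι ≫ pullback.snd f g)) ∧
        (∀ k, ∃ w : ↑(pullback f g), w ∈ V k ∧ pullback.snd f g w = u) ∧
        (∀ (w : ↑(pullback f g)) (i : ι), w ∈ W → pullback.snd f g w = u → pullback.fst f g w ≠ x i) := by
  classical
  obtain ⟨U, g, u, hg, hgu, K, _, lab, V, hV, hne, huniq, hall⟩ := h
  haveI := hg
  have hclosed : ∀ k, IsClosed (V k : Set ↑(pullback f g)) := fun k => by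
    haveI := (hV k).2
    haveI : IsFinite (V k).ι := .of_comp _ (pullback.snd f g)
    simpa using (V k).ι.isClosedMap.isClosed_range
  let bad : Set U := ⋃ c : {c : K × K // c.1 ≠ c.2},
    ((V c.1.1).ι ≫ pullback.snd f g) '' ((V c.1.1).ι ⁻¹' (V c.1.2 : Set ↑(pullback f g)))
  have hbad : IsClosed bad := isClosed_iUnion_of_finite fun c => by
    haveI := (hV c.1.1).2
    exact ((V c.1.1).ι ≫ pullback.snd f g).isClosedMap _ ((hclosed c.1.2).preimage (V c.1.1).ι.continuous)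
  let T : U.Opens := ⟨badᶜ, hbad.isOpen_compl⟩
  have hu : u ∈ T := fun hb => by
    obtain ⟨c, a, ha, hau⟩ := Set.mem_iUnion.1 hb
    exact c.2 (huniq c.1.1 c.1.2 ((V c.1.1).ι a) a.2 ha hau)
  refine ⟨T, T.ι ≫ g, ⟨u, hu⟩, inferInstance, hgu, ?_⟩
  let g' := T.ι ≫ g
  let m : pullback f g' ⟶ pullback f g := pullback.map f g' f g (𝟙 X) T.ι (𝟙 S) (by simp) (by simp [g'])
  have hm : IsPullback m (pullback.snd f g') (pullback.snd f g) T.ι := by
    refine IsPullback.of_right (h₁₂ := pullback.fst f g) ?_ (pullback.lift_snd _ _ _)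
      (IsPullback.of_hasPullback f g)
    simpa [m, pullback.lift_fst] using IsPullback.of_hasPullback f (T.ι ≫ g)
  have hmfst : m ≫ pullback.fst f g = pullback.fst f g' := (pullback.lift_fst _ _ _).trans (Category.comp_id _)
  let V' : K → (pullback f g').Opens := fun k => m ⁻¹ᵁ V k
  have hclosed' : ∀ k, IsClosed (V' k : Set ↑(pullback f g')) := fun k => (hclosed k).preimage m.continuous
  let Wt : (pullback f g').Opens := ⟨(⋃ k, (V' k : Set ↑(pullback f g')))ᶜ,
    (isClosed_iUnion_of_finite hclosed').isOpen_compl⟩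
  refine ⟨K, inferInstance, Wt, V', ?_, fun k => ?_, fun k k' hkk => ?_, fun k => ?_, fun k => ?_, fun w i hw hwu hwx => ?_⟩
  · refine eq_top_iff.2 fun w _ => ?_
    rw [TopologicalSpace.Opens.mem_sup]
    by_cases h : w ∈ ⋃ k, (V' k : Set ↑(pullback f g'))
    · obtain ⟨k, hk⟩ := Set.mem_iUnion.1 h
      exact Or.inr (TopologicalSpace.Opens.mem_iSup.2 ⟨k, hk⟩)
    · exact Or.inl h
  · rw [← TopologicalSpace.Opens.coe_disjoint, Set.disjoint_left]
    exact fun w hw hk => hw (Set.mem_iUnion.2 ⟨k, hk⟩)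
  · rw [← TopologicalSpace.Opens.coe_disjoint, Set.disjoint_left]
    intro w hk hk'
    have hT : pullback.snd f g (m w) ∈ T := by
      rw [← Scheme.Hom.comp_apply, hm.w]
      exact (pullback.snd f g' w).2
    exact hT (Set.mem_iUnion.2 ⟨⟨(k, k'), hkk⟩, ⟨m w, hk⟩, hk', rfl⟩)
  · exact MorphismProperty.of_isPullback (P := P) ((isPullback_morphismRestrict m (V k)).paste_vert hm) (hV k).1
  · obtain ⟨w, hwV, hwu⟩ := hne k
    obtain ⟨z, hz1, hz2⟩ := Scheme.Pullback.exists_preimage_pullback (f := pullback.snd f g) (g := T.ι) w ⟨u, hu⟩ hwu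
    have hw' : m (hm.isoPullback.inv z) = w := by
      rw [← Scheme.Hom.comp_apply, hm.isoPullback_inv_fst]; exact hz1
    have hw'' : pullback.snd f g' (hm.isoPullback.inv z) = ⟨u, hu⟩ := by
      rw [← Scheme.Hom.comp_apply, hm.isoPullback_inv_snd]; exact hz2
    exact ⟨_, show m _ ∈ V k by rw [hw']; exact hwV, hw''⟩
  · have hwu' : pullback.snd f g (m w) = u := by
      rw [← Scheme.Hom.comp_apply, hm.w, Scheme.Hom.comp_apply, hwu]; rfl
    obtain ⟨k, -, hk⟩ := hall (m w) i hwu' (by rw [← hwx, ← hmfst]; rfl)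
    exact hw (Set.mem_iUnion.2 ⟨k, hk⟩)

end Groth.Agent.EtLocalLib

namespace Groth.Agent.EtLocalLib

open Groth.Agent.Weighting

set_option backward.isDefEq.respectTransparency.types false

theorem lqf_of_unramified {X Y : Scheme.{u}} (g : X ⟶ Y) [FormallyUnramified g] [LocallyOfFiniteType g] :
    LocallyQuasiFinite g where
  quasiFinite_appLE {U} hU {V} hV h := by
    have h₁ := HasRingHomProperty.appLE (P := @LocallyOfFiniteType) g inferInstance ⟨U, hU⟩ ⟨V, hV⟩ h
    have h₂ := HasRingHomProperty.appLE (P := @FormallyUnramified) g inferInstance ⟨U, hU⟩ ⟨V, hV⟩ h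
    algebraize [(g.appLE U V h).hom]
    exact (inferInstance : Algebra.QuasiFinite Γ(Y, U) Γ(X, V))

theorem property_iSup {X S : Scheme.{u}} (f : X ⟶ S) {ι : Type*} (W : ι → X.Opens)
    (P : MorphismProperty Scheme.{u}) [IsZariskiLocalAtSource P]
    (h : ∀ i, P ((W i).ι ≫ f)) : P ((⨆ i, W i).ι ≫ f) := by
  refine IsZariskiLocalAtSource.of_iSup_eq_top (fun i => (⨆ i, W i).ι ⁻¹ᵁ W i) ?_ fun i => ?_
  · refine eq_top_iff.2 fun a _ => ?_
    obtain ⟨i, hi⟩ := TopologicalSpace.Opens.mem_iSup.1 a.2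
    exact TopologicalSpace.Opens.mem_iSup.2 ⟨i, hi⟩
  · rw [← morphismRestrict_ι_assoc, ← Category.assoc]
    exact IsZariskiLocalAtSource.comp (h i) _

theorem closedImmersion_piece {X₀ S V W : Scheme.{u}} (f₀ : X₀ ⟶ S) [FormallyUnramified f₀] {g : V ⟶ S}
    (j : W ⟶ X₀) (q : W ⟶ V) {K : Type u} [Field K] [IsAlgClosed K] (y : Spec (.of K) ⟶ V)
    (p : Spec (.of K) ⟶ X₀) (hp : IsPiece f₀ g j q) (hpt : IsPointed j q y p) :
    ∃ U : V.Opens, pt y ∈ U ∧ IsClosedImmersion (q ∣_ U) := by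
  haveI := hp.isFinite
  haveI := hp.isOpenImmersion_lift
  haveI : FormallyUnramified q := by
    rw [← pullback.lift_snd j q hp.w]
    exact MorphismProperty.comp_mem _ _ _ inferInstance (MorphismProperty.pullback_snd f₀ g inferInstance)
  exact Groth.Agent.S0096.exists_closedImm_pointed q y j hpt

theorem iso_piece {X₀ S V W : Scheme.{u}} (f₀ : X₀ ⟶ S) [Etale f₀] {g : V ⟶ S}
    (j : W ⟶ X₀) (q : W ⟶ V) {K : Type u} [Field K] [IsAlgClosed K] (y : Spec (.of K) ⟶ V)
    (p : Spec (.of K) ⟶ X₀) (hp : IsPiece f₀ g j q) (hpt : IsPointed j q y p) :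
    ∃ U : V.Opens, pt y ∈ U ∧ IsIso (q ∣_ U) := by
  haveI := hp.isFinite
  haveI := hp.isOpenImmersion_lift
  haveI : Etale q := by
    rw [← pullback.lift_snd j q hp.w]
    exact MorphismProperty.comp_mem _ _ _ inferInstance (MorphismProperty.pullback_snd f₀ g inferInstance)
  exact Groth.Agent.S9559.exists_iso_pointed q y j hpt

theorem unramified_nbhd {X S : Scheme.{u}} (f : X ⟶ S) (s : S) {ι : Type} [Finite ι] (x : ι → X)
    (hinj : Function.Injective x) (hs : ∀ i, f (x i) = s)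
    (hx : ∀ i, ∃ W : X.Opens, x i ∈ W ∧ LocallyOfFiniteType (W.ι ≫ f) ∧ FormallyUnramified (W.ι ≫ f)) :
    ∃ (U : Scheme.{u}) (g : U ⟶ S) (u : U), Etale g ∧ g u = s ∧
      ∃ (K : Type) (_ : Finite K) (lab : K → ι) (V : K → (pullback f g).Opens),
        (∀ k, IsClosedImmersion ((V k).ι ≫ pullback.snd f g) ∧ IsFinite ((V k).ι ≫ pullback.snd f g)) ∧
        (∀ k, ∃ w : ↑(pullback f g), w ∈ V k ∧ pullback.snd f g w = u) ∧
        (∀ (k k' : K) (w : ↑(pullback f g)), w ∈ V k → w ∈ V k' → pullback.snd f g w = u → k = k') ∧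
        (∀ (w : ↑(pullback f g)) (i : ι), pullback.snd f g w = u → pullback.fst f g w = x i →
          ∃ k, lab k = i ∧ w ∈ V k) := by
  choose W hW hlft hunr using hx
  haveI : LocallyOfFiniteType ((⨆ i, W i).ι ≫ f) := property_iSup f W @LocallyOfFiniteType hlft
  haveI : FormallyUnramified ((⨆ i, W i).ι ≫ f) := property_iSup f W @FormallyUnramified hunr
  haveI := lqf_of_unramified ((⨆ i, W i).ι ≫ f)
  exact exists_nbhd_pieces f s x hinj hs (⨆ i, W i) (fun i => TopologicalSpace.Opens.mem_iSup.2 ⟨i, hW i⟩)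
    @IsClosedImmersion (by intro V' W' g _ j q K _ _ y p hp hpt; exact closedImmersion_piece _ j q y p hp hpt)

theorem etale_nbhd {X S : Scheme.{u}} (f : X ⟶ S) (s : S) {ι : Type} [Finite ι] (x : ι → X)
    (hinj : Function.Injective x) (hs : ∀ i, f (x i) = s)
    (hx : ∀ i, ∃ W : X.Opens, x i ∈ W ∧ Etale (W.ι ≫ f)) :
    ∃ (U : Scheme.{u}) (g : U ⟶ S) (u : U), Etale g ∧ g u = s ∧
      ∃ (K : Type) (_ : Finite K) (lab : K → ι) (V : K → (pullback f g).Opens),
        (∀ k, MorphismProperty.isomorphisms Scheme ((V k).ι ≫ pullback.snd f g) ∧ IsFinite ((V k).ι ≫ pullback.snd f g)) ∧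
        (∀ k, ∃ w : ↑(pullback f g), w ∈ V k ∧ pullback.snd f g w = u) ∧
        (∀ (k k' : K) (w : ↑(pullback f g)), w ∈ V k → w ∈ V k' → pullback.snd f g w = u → k = k') ∧
        (∀ (w : ↑(pullback f g)) (i : ι), pullback.snd f g w = u → pullback.fst f g w = x i →
          ∃ k, lab k = i ∧ w ∈ V k) := by
  choose W hW het using hx
  haveI : Etale ((⨆ i, W i).ι ≫ f) := property_iSup f W @Etale het
  haveI := lqf_of_unramified ((⨆ i, W i).ι ≫ f)
  exact exists_nbhd_pieces f s x hinj hs (⨆ i, W i) (fun i => TopologicalSpace.Opens.mem_iSup.2 ⟨i, hW i⟩)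
    (MorphismProperty.isomorphisms Scheme) (by intro V' W' g _ j q K _ _ y p hp hpt; exact iso_piece _ j q y p hp hpt)

end Groth.Agent.EtLocalLib
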