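import Groth.Agent.Unram.Pointwise
import Groth.Agent.Unram.Descent

/-!
Pointwise criteria for unramified and étale morphisms in terms of local homomorphisms.
-/

set_option autoImplicit false
universe u

open CategoryTheory AlgebraicGeometry IsLocalRing

namespace Groth.Agent.EtLocalLib

theorem formallyUnramified_iff_local {R S : Type u} [CommRing R] [CommRing S] [IsLocalRing R] [IsLocalRing S]
    (φ : R →+* S) [IsLocalHom φ] (hφ : φ.EssFiniteType) :
    φ.FormallyUnramified ↔ (maximalIdeal R).map φ = maximalIdeal S ∧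
      letI := (ResidueField.map φ).toAlgebra
      Module.Finite (ResidueField R) (ResidueField S) ∧ Algebra.IsSeparable (ResidueField R) (ResidueField S) := by
  algebraize [φ]
  haveI : IsLocalHom (algebraMap R S) := ‹IsLocalHom φ›
  refine Iff.trans (RingHom.formallyUnramified_algebraMap (R := R) (S := S)) ?_
  have he : (ResidueField.map φ).toAlgebra = (inferInstance : Algebra (ResidueField R) (ResidueField S)) :=
    Algebra.algebra_ext _ _ fun x => by obtain ⟨r, rfl⟩ := residue_surjective x; rfl
  constructor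
  · intro h
    refine ⟨Algebra.FormallyUnramified.map_maximalIdeal, ?_⟩
    rw [he]
    exact ⟨(inferInstance : Module.Finite (ResidueField R) (ResidueField S)),
      (inferInstance : Algebra.IsSeparable (ResidueField R) (ResidueField S))⟩
  · rintro ⟨hm, h⟩
    rw [he] at h
    obtain ⟨-, hs⟩ := h
    haveI : Algebra.IsSeparable (ResidueField R) (ResidueField S) := hs
    exact Algebra.FormallyUnramified.of_map_maximalIdeal hm

theorem locallyOfFinitePresentation_of_noetherian {X Y : Scheme.{u}} (f : X ⟶ Y) [LocallyOfFiniteType f]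
    [IsLocallyNoetherian Y] : LocallyOfFinitePresentation f := by
  rw [HasRingHomProperty.iff_appLE (P := @LocallyOfFinitePresentation)]
  intro U V e
  haveI := IsLocallyNoetherian.component_noetherian (X := Y) U
  have := f.finiteType_appLE U.2 V.2 e
  exact RingHom.FinitePresentation.of_finiteType.mp this

theorem etale_nhd_iff_flat_unramified {X Y : Scheme.{u}} (f : X ⟶ Y) [LocallyOfFinitePresentation f] (x : X) :
    (∃ U : X.Opens, x ∈ U ∧ Etale (U.ι ≫ f)) ↔
      (f.stalkMap x).hom.Flat ∧ (f.stalkMap x).hom.FormallyUnramified := by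
  constructor
  · rintro ⟨U, hxU, hU⟩
    refine ⟨?_, (Groth.Agent.Unram.unramified_nhd_iff f x).mp ⟨U, hxU, inferInstance⟩⟩
    exact (Groth.Agent.Unram.stalkMap_ι_comp_iff RingHom.Flat.respectsIso f U ⟨x, hxU⟩).mp
      (Flat.stalkMap _ _)
  · rintro ⟨hfl, hur⟩
    obtain ⟨U, hU, V, hV, hVU, hxV⟩ := Groth.Agent.Unram.exists_chart f x
    rw [Groth.Agent.Unram.etale_nhd_iff_isEtaleAt f U hU V hV hVU hxV]
    rw [Groth.Agent.Unram.flat_stalkMap_iff U hU V hV hVU hxV] at hfl
    rw [Groth.Agent.Unram.formallyUnramified_stalkMap_iff U hU V hV hVU hxV] at hur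
    let := (f.appLE U V hVU).hom.toAlgebra
    haveI : Algebra.FinitePresentation Γ(Y, U) Γ(X, V) :=
      HasRingHomProperty.appLE (P := @LocallyOfFinitePresentation) f inferInstance ⟨U, hU⟩ ⟨V, hV⟩ hVU
    haveI : Algebra.IsUnramifiedAt Γ(Y, U) (hV.primeIdealOf ⟨x, hxV⟩).asIdeal := hur
    haveI := hfl
    exact Groth.Agent.Unram.isEtaleAt_of_flat_of_isUnramifiedAt _

end Groth.Agent.EtLocalLib
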