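import Groth.Agent.EtLocalLib.StalkCrit
import Groth.Agent.CAlgCompl.Basic
import Groth.Agent.AdicNoeth.Basic
import Groth.Agent.FlatCrit.BaseIdeal
import Mathlib.RingTheory.AdicCompletion.LocalRing

/-!
Comparison of a local homomorphism with the induced map of completions.
-/

set_option autoImplicit false
universe u

open IsLocalRing

namespace Groth.Agent.EtLocalLib

theorem field_transfer {k₁ l₁ k₂ l₂ : Type u} [Field k₁] [Field l₁] [Field k₂] [Field l₂]
    (e₁ : k₁ ≃+* k₂) (e₂ : l₁ ≃+* l₂) (f₁ : k₁ →+* l₁) (f₂ : k₂ →+* l₂)
    (h : ∀ x, e₂ (f₁ x) = f₂ (e₁ x)) :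
    (letI := f₁.toAlgebra; Module.Finite k₁ l₁ ∧ Algebra.IsSeparable k₁ l₁) ↔
      (letI := f₂.toAlgebra; Module.Finite k₂ l₂ ∧ Algebra.IsSeparable k₂ l₂) := by
  let := f₁.toAlgebra
  let := f₂.toAlgebra
  have he : (algebraMap k₂ l₂).comp e₁ = RingHom.comp e₂ (algebraMap k₁ l₁) :=
    RingHom.ext fun x => (h x).symm
  refine and_congr ?_ (Algebra.IsSeparable.iff_of_equiv_equiv e₁ e₂ he)
  constructor
  · intro _
    exact Module.Finite.of_equiv_equiv e₁ e₂ he
  · intro _
    exact Module.Finite.of_equiv_equiv e₁.symm e₂.symm (RingHom.ext fun x => by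
      simpa [RingEquiv.eq_symm_apply, RingHom.algebraMap_toAlgebra] using h (e₁.symm x))

theorem residue_transfer {R R' S S' : Type u} [CommRing R] [CommRing R'] [CommRing S] [CommRing S']
    [IsLocalRing R] [IsLocalRing R'] [IsLocalRing S] [IsLocalRing S']
    (i : R →+* R') (j : S →+* S') (f : R →+* S) (g : R' →+* S')
    [IsLocalHom i] [IsLocalHom j] [IsLocalHom f] [IsLocalHom g]
    (hi : Function.Bijective (ResidueField.map i)) (hj : Function.Bijective (ResidueField.map j))
    (hc : ∀ r, g (i r) = j (f r)) :
    (letI := (ResidueField.map f).toAlgebra;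
      Module.Finite (ResidueField R) (ResidueField S) ∧ Algebra.IsSeparable (ResidueField R) (ResidueField S)) ↔
      (letI := (ResidueField.map g).toAlgebra;
        Module.Finite (ResidueField R') (ResidueField S') ∧
          Algebra.IsSeparable (ResidueField R') (ResidueField S')) :=
  field_transfer (RingEquiv.ofBijective _ hi) (RingEquiv.ofBijective _ hj) _ _ fun x => by
    obtain ⟨r, rfl⟩ := residue_surjective x
    show residue S' (j (f r)) = residue S' (g (i r))
    rw [hc]

theorem residue_algebra_eq {R S : Type u} [CommRing R] [CommRing S] [IsLocalRing R] [IsLocalRing S]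
    [Algebra R S] [IsLocalHom (algebraMap R S)] :
    (ResidueField.map (algebraMap R S)).toAlgebra =
      (inferInstance : Algebra (ResidueField R) (ResidueField S)) :=
  Algebra.algebra_ext _ _ fun x => by obtain ⟨r, rfl⟩ := residue_surjective x; rfl

/-- A local homomorphism from a complete local ring to a separated one, with finite fibre, is finite. -/
theorem finite_of_map_maximalIdeal {R S : Type u} [CommRing R] [CommRing S] [IsLocalRing R] [IsLocalRing S]
    [IsNoetherianRing S] [IsAdicComplete (maximalIdeal R) R] [Algebra R S] [IsLocalHom (algebraMap R S)]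
    (hm : (maximalIdeal R).map (algebraMap R S) = maximalIdeal S)
    [Module.Finite (ResidueField R) (ResidueField S)] : Module.Finite R S := by
  haveI : IsHausdorff (maximalIdeal R) S := ⟨fun x hx => IsHausdorff.haus'
    (I := maximalIdeal S) x fun n => by
      have h := hx n
      rw [SModEq.zero] at h ⊢
      have h' := FlatCrit.mem_map_smul_top (S := S) h
      rw [Ideal.map_pow, hm] at h'
      exact h'⟩
  apply CAlgCompl.finite_of_finite_quotient (maximalIdeal R) S
  haveI : Module.Finite R (ResidueField R) :=
    Module.Finite.of_surjective (Algebra.linearMap R (ResidueField R)) residue_surjective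
  haveI : Module.Finite R (ResidueField S) := Module.Finite.trans (ResidueField R) (ResidueField S)
  have hle : (maximalIdeal R • ⊤ : Submodule R S) = (maximalIdeal S).restrictScalars R := by
    rw [Ideal.smul_top_eq_map, hm]
  let q : (S ⧸ (maximalIdeal R • ⊤ : Submodule R S)) ≃ₗ[R] ResidueField S :=
    (Submodule.quotEquivOfEq _ _ hle).trans (Submodule.Quotient.restrictScalarsEquiv R (maximalIdeal S))
  exact Module.Finite.equiv q.symm

theorem finite_of_map_maximalIdeal' {R S : Type u} [CommRing R] [CommRing S] [IsLocalRing R] [IsLocalRing S]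
    [IsNoetherianRing S] [IsAdicComplete (maximalIdeal R) R] (φ : R →+* S) [IsLocalHom φ]
    (hm : (maximalIdeal R).map φ = maximalIdeal S) (h : (ResidueField.map φ).Finite) : φ.Finite := by
  let := φ.toAlgebra
  haveI : IsLocalHom (algebraMap R S) := ‹IsLocalHom φ›
  haveI : Module.Finite (ResidueField R) (ResidueField S) := by
    have h' : (ResidueField.map (algebraMap R S)).Finite := h
    rw [RingHom.Finite, residue_algebra_eq] at h'
    exact h'
  exact finite_of_map_maximalIdeal hm

section Completion

variable {A B : Type u} [CommRing A] [CommRing B] [IsLocalRing A] [IsLocalRing B]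
  [IsNoetherianRing A] [IsNoetherianRing B] [Algebra A B] [IsLocalHom (algebraMap A B)]
  (ψ : AdicCompletion (maximalIdeal A) A →+* AdicCompletion (maximalIdeal B) B)
  (hψ : ψ.comp (algebraMap A (AdicCompletion (maximalIdeal A) A)) =
    (algebraMap B (AdicCompletion (maximalIdeal B) B)).comp (algebraMap A B))

include hψ

theorem completion_map_maximalIdeal :
    (maximalIdeal (AdicCompletion (maximalIdeal A) A)).map ψ =
      ((maximalIdeal A).map (algebraMap A B)).map (algebraMap B (AdicCompletion (maximalIdeal B) B)) := by
  rw [AdicCompletion.maximalIdeal_eq_map, Ideal.map_map, hψ, Ideal.map_map]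

theorem completion_isLocalHom : IsLocalHom ψ := by
  refine ((local_hom_TFAE ψ).out 0 2).mpr ?_
  rw [completion_map_maximalIdeal ψ hψ, AdicCompletion.maximalIdeal_eq_map]
  exact Ideal.map_mono (((local_hom_TFAE (algebraMap A B)).out 0 2).mp ‹IsLocalHom (algebraMap A B)›)

theorem completion_residue_iff :
    haveI := completion_isLocalHom ψ hψ
    (Module.Finite (ResidueField A) (ResidueField B) ∧
      Algebra.IsSeparable (ResidueField A) (ResidueField B)) ↔
    (letI := (ResidueField.map ψ).toAlgebra;
      Module.Finite (ResidueField (AdicCompletion (maximalIdeal A) A))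
          (ResidueField (AdicCompletion (maximalIdeal B) B)) ∧
        Algebra.IsSeparable (ResidueField (AdicCompletion (maximalIdeal A) A))
          (ResidueField (AdicCompletion (maximalIdeal B) B))) := by
  haveI := completion_isLocalHom ψ hψ
  have h := residue_transfer _ _ (algebraMap A B) ψ (AdicCompletion.residueField_map_bijective A)
    (AdicCompletion.residueField_map_bijective B) (fun r => RingHom.congr_fun hψ r)
  rw [residue_algebra_eq] at h
  exact h

theorem completion_map_eq_iff :
    (maximalIdeal A).map (algebraMap A B) = maximalIdeal B ↔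
      (maximalIdeal (AdicCompletion (maximalIdeal A) A)).map ψ =
        maximalIdeal (AdicCompletion (maximalIdeal B) B) := by
  rw [completion_map_maximalIdeal ψ hψ, AdicCompletion.maximalIdeal_eq_map]
  haveI : Module.FaithfullyFlat B (AdicCompletion (maximalIdeal B) B) :=
    Module.FaithfullyFlat.of_flat_of_isLocalHom
  refine ⟨fun h => by rw [h], fun h => ?_⟩
  have := congrArg (Ideal.comap (algebraMap B (AdicCompletion (maximalIdeal B) B))) h
  rwa [Ideal.comap_map_eq_self_of_faithfullyFlat, Ideal.comap_map_eq_self_of_faithfullyFlat] at this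

theorem completion_finite (hm : (maximalIdeal A).map (algebraMap A B) = maximalIdeal B)
    (hf : Module.Finite (ResidueField A) (ResidueField B) ∧
      Algebra.IsSeparable (ResidueField A) (ResidueField B)) :
    ψ.Finite ∧ ψ.FormallyUnramified := by
  haveI := completion_isLocalHom ψ hψ
  haveI : IsNoetherianRing (AdicCompletion (maximalIdeal B) B) := AdicNoeth.isNoetherianRing_adicCompletion _
  have hres := (completion_residue_iff ψ hψ).1 hf
  have hmψ := (completion_map_eq_iff ψ hψ).1 hm
  have hfin : ψ.Finite := finite_of_map_maximalIdeal' ψ hmψ hres.1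
  exact ⟨hfin, (formallyUnramified_iff_local ψ (RingHom.FiniteType.essFiniteType
    (RingHom.Finite.finiteType hfin))).2 ⟨hmψ, hres⟩⟩

theorem completion_unramified_iff :
    ((maximalIdeal A).map (algebraMap A B) = maximalIdeal B ∧
        Module.Finite (ResidueField A) (ResidueField B) ∧
        Algebra.IsSeparable (ResidueField A) (ResidueField B)) ↔
      (ψ.FiniteType ∧ ψ.FormallyUnramified) := by
  haveI := completion_isLocalHom ψ hψ
  refine ⟨fun h => ?_, fun h => ?_⟩
  · obtain ⟨h1, h2⟩ := completion_finite ψ hψ h.1 h.2
    exact ⟨RingHom.Finite.finiteType h1, h2⟩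
  · obtain ⟨hm, hr⟩ := (formallyUnramified_iff_local ψ (RingHom.FiniteType.essFiniteType h.1)).1 h.2
    exact ⟨(completion_map_eq_iff ψ hψ).2 hm, (completion_residue_iff ψ hψ).2 hr⟩

theorem completion_flat [Module.Flat A B] : ψ.Flat := by
  haveI := completion_isLocalHom ψ hψ
  haveI : IsNoetherianRing (AdicCompletion (maximalIdeal A) A) := AdicNoeth.isNoetherianRing_adicCompletion _
  haveI : IsNoetherianRing (AdicCompletion (maximalIdeal B) B) := AdicNoeth.isNoetherianRing_adicCompletion _
  let := ψ.toAlgebra
  haveI : Module.Flat B (AdicCompletion (maximalIdeal B) B) := inferInstance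
  haveI : IsScalarTower A (AdicCompletion (maximalIdeal A) A) (AdicCompletion (maximalIdeal B) B) :=
    IsScalarTower.of_algebraMap_eq fun a =>
      (IsScalarTower.algebraMap_apply A B (AdicCompletion (maximalIdeal B) B) a).trans
        (RingHom.congr_fun hψ a).symm
  haveI : Module.Flat A (AdicCompletion (maximalIdeal B) B) :=
    Module.Flat.trans A B (AdicCompletion (maximalIdeal B) B)
  have h1 := FlatCrit.lTensor_subtype_map_injective_of_flat (S := AdicCompletion (maximalIdeal A) A)
    (M := AdicCompletion (maximalIdeal B) B) (maximalIdeal A)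
  rw [← AdicCompletion.maximalIdeal_eq_map] at h1
  haveI : ∀ (R M : Type u) [CommRing R] [IsLocalRing R] [AddCommGroup M] [Module (R ⧸ maximalIdeal R) M],
      Module.Flat (R ⧸ maximalIdeal R) M := fun R M _ _ _ _ => by
    let := Ideal.Quotient.field (maximalIdeal R)
    exact inferInstance
  refine FlatCrit.flat_of_le_jacobson (S := AdicCompletion (maximalIdeal B) B)
    (I := maximalIdeal (AdicCompletion (maximalIdeal A) A)) ?_ h1
  rw [IsLocalRing.jacobson_eq_maximalIdeal (⊥ : Ideal _) bot_ne_top]
  exact ((local_hom_TFAE ψ).out 0 2).mp (completion_isLocalHom ψ hψ)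

theorem completion_flat_descend (h : ψ.Flat) : Module.Flat A B := by
  haveI : Module.FaithfullyFlat B (AdicCompletion (maximalIdeal B) B) :=
    Module.FaithfullyFlat.of_flat_of_isLocalHom
  let := ψ.toAlgebra
  haveI : Module.Flat (AdicCompletion (maximalIdeal A) A) (AdicCompletion (maximalIdeal B) B) := h
  haveI : IsScalarTower A (AdicCompletion (maximalIdeal A) A) (AdicCompletion (maximalIdeal B) B) :=
    IsScalarTower.of_algebraMap_eq fun a =>
      (IsScalarTower.algebraMap_apply A B (AdicCompletion (maximalIdeal B) B) a).trans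
        (RingHom.congr_fun hψ a).symm
  haveI : Module.Flat A (AdicCompletion (maximalIdeal B) B) :=
    Module.Flat.trans A (AdicCompletion (maximalIdeal A) A) (AdicCompletion (maximalIdeal B) B)
  exact Unram.flat_of_flat_faithfullyFlat B (AdicCompletion (maximalIdeal B) B)

theorem completion_etale_iff :
    (Module.Flat A B ∧ (maximalIdeal A).map (algebraMap A B) = maximalIdeal B ∧
        Module.Finite (ResidueField A) (ResidueField B) ∧
        Algebra.IsSeparable (ResidueField A) (ResidueField B)) ↔ ψ.Etale := by
  haveI : IsNoetherianRing (AdicCompletion (maximalIdeal A) A) := AdicNoeth.isNoetherianRing_adicCompletion _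
  rw [completion_unramified_iff ψ hψ, RingHom.Etale.iff_flat_and_formallyUnramified]
  constructor
  · rintro ⟨hfl, hft, hfu⟩
    exact ⟨completion_flat ψ hψ, hfu, RingHom.FinitePresentation.of_finiteType.mp hft⟩
  · rintro ⟨hfl, hfu, hfp⟩
    exact ⟨completion_flat_descend ψ hψ hfl, RingHom.FinitePresentation.of_finiteType.mpr hfp, hfu⟩

theorem completion_free (h : ψ.Etale) :
    letI := ψ.toAlgebra
    ∃ n : ℕ, 0 < n ∧
      Nonempty ((Fin n → AdicCompletion (maximalIdeal A) A) ≃ₗ[AdicCompletion (maximalIdeal A) A]
        AdicCompletion (maximalIdeal B) B) := by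
  haveI : IsNoetherianRing (AdicCompletion (maximalIdeal A) A) := AdicNoeth.isNoetherianRing_adicCompletion _
  obtain ⟨hfl, hm, hr⟩ := (completion_etale_iff ψ hψ).2 h
  let := ψ.toAlgebra
  haveI : Module.Finite (AdicCompletion (maximalIdeal A) A) (AdicCompletion (maximalIdeal B) B) :=
    (completion_finite ψ hψ hm hr).1
  haveI : Module.Flat (AdicCompletion (maximalIdeal A) A) (AdicCompletion (maximalIdeal B) B) :=
    completion_flat ψ hψ
  haveI : Module.Free (AdicCompletion (maximalIdeal A) A) (AdicCompletion (maximalIdeal B) B) :=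
    Module.free_of_flat_of_isLocalRing
  exact ⟨_, (Module.finrank_pos_iff_of_free _ _).mpr inferInstance, ⟨(Module.finBasis _ _).equivFun.symm⟩⟩

end Completion

end Groth.Agent.EtLocalLib
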